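import Groth.Prelude.Def_ComodSub
import Mathlib.RingTheory.HopfAlgebra.Convolution

/-!
# The passage between left and right comodules through the antipode
-/

set_option autoImplicit false
universe u v w
open TensorProduct WithConv HopfAlgebra

namespace K892.Anti

variable {k : Type u} [CommRing k] {A : Type v} [CommRing A] [HopfAlgebra k A]

/-- The antipode reverses the comultiplication. -/
theorem comul_antipode (x : A) : CoalgebraStruct.comul (R := k) (antipode k x) =
    TensorProduct.comm k A A (TensorProduct.map (antipode k) (antipode k)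
      (CoalgebraStruct.comul (R := k) x)) := by
  let i1 : WithConv (A →ₐ[k] A ⊗[k] A) := toConv Algebra.TensorProduct.includeLeft
  let i2 : WithConv (A →ₐ[k] A ⊗[k] A) := toConv Algebra.TensorProduct.includeRight
  have h1 : toConv (Bialgebra.comulAlgHom k A) = i1 * i2 := by
    apply WithConv.ofConv_injective
    rw [AlgHom.convMul_def]
    ext a
    simp only [AlgHom.comp_apply, i1, i2]
    change CoalgebraStruct.comul (R := k) a = Algebra.TensorProduct.lmul' k
      (Algebra.TensorProduct.map _ _ (CoalgebraStruct.comul (R := k) a))
    generalize CoalgebraStruct.comul (R := k) a = y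
    induction y using TensorProduct.induction_on with
    | zero => simp
    | tmul x y => simp
    | add x y hx hy => rw [map_add, map_add, ← hx, ← hy]
  have h2 : (i1 * i2)⁻¹ = i2⁻¹ * i1⁻¹ := mul_inv_rev i1 i2
  rw [← h1] at h2
  have h3 := congrArg (fun f : WithConv (A →ₐ[k] A ⊗[k] A) => f.ofConv x) h2
  have h4 : ((toConv (Bialgebra.comulAlgHom k A) : WithConv (A →ₐ[k] A ⊗[k] A))⁻¹).ofConv x =
    CoalgebraStruct.comul (R := k) (antipode k x) := rfl
  rw [← h4]
  refine h3.trans ?_
  change (i2⁻¹ * i1⁻¹).ofConv x = _
  rw [AlgHom.convMul_def]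
  change Algebra.TensorProduct.lmul' k
      (Algebra.TensorProduct.map _ _ (CoalgebraStruct.comul (R := k) x)) = _
  generalize CoalgebraStruct.comul (R := k) x = y
  induction y using TensorProduct.induction_on with
  | zero => simp
  | tmul x y =>
    rw [Algebra.TensorProduct.map_tmul, Algebra.TensorProduct.lmul'_apply_tmul,
      TensorProduct.map_tmul, TensorProduct.comm_tmul]
    change ((1 : A) ⊗ₜ[k] antipode k x) * (antipode k y ⊗ₜ[k] (1 : A)) = _
    simp
  | add x y hx hy => rw [map_add, map_add, hx, hy, map_add, map_add]

variable {M : Type w} [AddCommGroup M] [Module k M]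

/-- `a ⊗ (b ⊗ m) ↦ m ⊗ (S b ⊗ S a)`. -/
noncomputable def revL : A ⊗[k] (A ⊗[k] M) →ₗ[k] M ⊗[k] (A ⊗[k] A) :=
  (TensorProduct.assoc k M A A).toLinearMap ∘ₗ
    TensorProduct.map ((TensorProduct.comm k A M).toLinearMap ∘ₗ (antipode k (A := A)).rTensor M)
      (antipode k (A := A)) ∘ₗ (TensorProduct.comm k A (A ⊗[k] M)).toLinearMap

theorem revL_tmul (a b : A) (m : M) :
    revL (k := k) (a ⊗ₜ[k] (b ⊗ₜ[k] m)) = m ⊗ₜ[k] (antipode k b ⊗ₜ[k] antipode k a) := rfl

/-- `(m ⊗ a) ⊗ b ↦ S b ⊗ (S a ⊗ m)`. -/
noncomputable def revR : M ⊗[k] (A ⊗[k] A) →ₗ[k] A ⊗[k] (A ⊗[k] M) :=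
  (TensorProduct.comm k (A ⊗[k] M) A).toLinearMap ∘ₗ
    TensorProduct.map ((TensorProduct.comm k M A).toLinearMap ∘ₗ (antipode k (A := A)).lTensor M)
      (antipode k (A := A)) ∘ₗ (TensorProduct.assoc k M A A).symm.toLinearMap

theorem revR_tmul (a b : A) (m : M) :
    revR (k := k) (m ⊗ₜ[k] (a ⊗ₜ[k] b)) = antipode k b ⊗ₜ[k] (antipode k a ⊗ₜ[k] m) := rfl

theorem exists_right (l : ComodSub.LComod k A M) :
    ∃ c : HopfRep.Comod k A M, c.coact = ComodSub.rcoactOfLeft l := by
  have h1 : ∀ y : A ⊗[k] M, (TensorProduct.assoc k M A A)
      ((ComodSub.rcoactOfLeft l).rTensor A (TensorProduct.comm k A M ((antipode k (A := A)).rTensor M y))) =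
      revL (l.coact.lTensor A y) := by
    intro y
    induction y using TensorProduct.induction_on with
    | zero => simp
    | add x y hx hy => simp only [map_add, hx, hy]
    | tmul a m =>
      rw [LinearMap.rTensor_tmul, TensorProduct.comm_tmul, LinearMap.rTensor_tmul,
        LinearMap.lTensor_tmul, ComodSub.rcoactOfLeft_apply]
      generalize l.coact m = z
      induction z using TensorProduct.induction_on with
      | zero => simp
      | add x y hx hy => simp only [map_add, add_tmul, tmul_add, hx, hy]
      | tmul b m' => rfl
  have h2 : ∀ y : A ⊗[k] M, (CoalgebraStruct.comul (R := k) (A := A)).lTensor M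
      (TensorProduct.comm k A M ((antipode k (A := A)).rTensor M y)) =
      revL (TensorProduct.assoc k A A M ((CoalgebraStruct.comul (R := k) (A := A)).rTensor M y)) := by
    intro y
    induction y using TensorProduct.induction_on with
    | zero => simp
    | add x y hx hy => simp only [map_add, hx, hy]
    | tmul a m =>
      rw [LinearMap.rTensor_tmul, TensorProduct.comm_tmul, LinearMap.lTensor_tmul,
        LinearMap.rTensor_tmul, comul_antipode]
      generalize CoalgebraStruct.comul (R := k) a = z
      induction z using TensorProduct.induction_on with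
      | zero => simp
      | add x y hx hy => simp only [map_add, add_tmul, tmul_add, hx, hy]
      | tmul b m' => rfl
  refine ⟨⟨ComodSub.rcoactOfLeft l, ?_, ?_⟩, rfl⟩
  · refine LinearMap.ext (fun v => ?_)
    have hc := LinearMap.congr_fun l.coassoc v
    simp only [LinearMap.coe_comp, Function.comp_apply, LinearEquiv.coe_coe] at hc ⊢
    rw [ComodSub.rcoactOfLeft_apply, h1, h2]
    exact congrArg _ hc
  · refine LinearMap.ext (fun v => ?_)
    have hc := LinearMap.congr_fun l.counit_comp v
    simp only [LinearMap.coe_comp, Function.comp_apply, LinearMap.flip_apply,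
      TensorProduct.mk_apply] at hc ⊢
    have h3 : ∀ y : A ⊗[k] M, (CoalgebraStruct.counit (R := k) (A := A)).lTensor M
        (TensorProduct.comm k A M ((antipode k (A := A)).rTensor M y)) =
        TensorProduct.comm k k M ((CoalgebraStruct.counit (R := k) (A := A)).rTensor M y) := by
      intro y
      induction y using TensorProduct.induction_on with
      | zero => simp
      | add x y hx hy => simp only [map_add, hx, hy]
      | tmul a m =>
        rw [LinearMap.rTensor_tmul, TensorProduct.comm_tmul, LinearMap.lTensor_tmul,
          LinearMap.rTensor_tmul, TensorProduct.comm_tmul, HopfAlgebra.counit_antipode]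
    rw [ComodSub.rcoactOfLeft_apply, h3, hc, TensorProduct.comm_tmul]

theorem exists_left (c : HopfRep.Comod k A M) :
    ∃ l : ComodSub.LComod k A M, l.coact = ComodSub.lcoactOfRight c := by
  have h1 : ∀ y : M ⊗[k] A,
      ((ComodSub.lcoactOfRight c).lTensor A (TensorProduct.comm k M A ((antipode k (A := A)).lTensor M y))) =
      revR (TensorProduct.assoc k M A A (c.coact.rTensor A y)) := by
    intro y
    induction y using TensorProduct.induction_on with
    | zero => simp
    | add x y hx hy => simp only [map_add, hx, hy]
    | tmul m a =>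
      rw [LinearMap.lTensor_tmul, TensorProduct.comm_tmul, LinearMap.rTensor_tmul,
        LinearMap.lTensor_tmul, ComodSub.lcoactOfRight_apply]
      generalize c.coact m = z
      induction z using TensorProduct.induction_on with
      | zero => simp
      | add x y hx hy => simp only [map_add, add_tmul, tmul_add, hx, hy]
      | tmul b m' => rfl
  have h2 : ∀ y : M ⊗[k] A, (TensorProduct.assoc k A A M) ((CoalgebraStruct.comul (R := k) (A := A)).rTensor M
      (TensorProduct.comm k M A ((antipode k (A := A)).lTensor M y))) =
      revR ((CoalgebraStruct.comul (R := k) (A := A)).lTensor M y) := by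
    intro y
    induction y using TensorProduct.induction_on with
    | zero => simp
    | add x y hx hy => simp only [map_add, hx, hy]
    | tmul m a =>
      rw [LinearMap.lTensor_tmul, TensorProduct.comm_tmul, LinearMap.lTensor_tmul,
        LinearMap.rTensor_tmul, comul_antipode]
      generalize CoalgebraStruct.comul (R := k) a = z
      induction z using TensorProduct.induction_on with
      | zero => simp
      | add x y hx hy => simp only [map_add, add_tmul, tmul_add, hx, hy]
      | tmul b m' => rfl
  refine ⟨⟨ComodSub.lcoactOfRight c, ?_, ?_⟩, rfl⟩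
  · refine LinearMap.ext (fun v => ?_)
    have hc := LinearMap.congr_fun c.coassoc v
    simp only [LinearMap.coe_comp, Function.comp_apply, LinearEquiv.coe_coe] at hc ⊢
    rw [ComodSub.lcoactOfRight_apply, h1, h2]
    exact congrArg _ hc
  · refine LinearMap.ext (fun v => ?_)
    have hc := LinearMap.congr_fun c.counit_comp v
    simp only [LinearMap.coe_comp, Function.comp_apply, LinearMap.flip_apply,
      TensorProduct.mk_apply] at hc ⊢
    have h3 : ∀ y : M ⊗[k] A, (CoalgebraStruct.counit (R := k) (A := A)).rTensor M
        (TensorProduct.comm k M A ((antipode k (A := A)).lTensor M y)) =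
        TensorProduct.comm k M k ((CoalgebraStruct.counit (R := k) (A := A)).lTensor M y) := by
      intro y
      induction y using TensorProduct.induction_on with
      | zero => simp
      | add x y hx hy => simp only [map_add, hx, hy]
      | tmul m a =>
        rw [LinearMap.lTensor_tmul, TensorProduct.comm_tmul, LinearMap.lTensor_tmul,
          LinearMap.rTensor_tmul, TensorProduct.comm_tmul, HopfAlgebra.counit_antipode]
    rw [ComodSub.lcoactOfRight_apply, h3, hc, TensorProduct.comm_tmul]

end K892.Anti
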