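import Groth.Prelude.Def_ComodSub
import Mathlib.Algebra.Module.FinitePresentation
import Mathlib.RingTheory.Flat.Basic
import Mathlib.LinearAlgebra.Contraction

/-!
# `M^* ⊗ N → Hom(M, N)` is bijective for `M` finitely presented and `N` flat; left duals of comodules
-/

set_option autoImplicit false
universe u v w
open TensorProduct

namespace K892.DualFp

theorem bijective_dualTensorHom (k : Type u) [CommRing k] (M : Type w) [AddCommGroup M] [Module k M]
    [Module.FinitePresentation k M] (N : Type v) [AddCommGroup N] [Module k N] [Module.Flat k N] :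
    Function.Bijective (dualTensorHom k M N) := by
  classical
  obtain ⟨n, m, f, g, hf, hfg⟩ := Module.FinitePresentation.exists_fin' k M
  have hinj : Function.Injective f.dualMap := LinearMap.dualMap_injective_of_surjective hf
  have hinjN : Function.Injective (f.dualMap.rTensor N) :=
    Module.Flat.rTensor_preserves_injective_linearMap _ hinj
  have hex : Function.Exact f.dualMap g.dualMap := by
    intro φ
    constructor
    · intro h
      have hker : LinearMap.ker f ≤ LinearMap.ker φ := by
        intro x hx
        obtain ⟨y, rfl⟩ := (hfg x).1 hx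
        exact LinearMap.congr_fun h y
      exact ⟨(LinearMap.ker f).liftQ φ hker ∘ₗ (f.quotKerEquivOfSurjective hf).symm.toLinearMap, by
        refine LinearMap.ext (fun x => ?_)
        change (LinearMap.ker f).liftQ φ hker ((f.quotKerEquivOfSurjective hf).symm (f x)) = φ x
        have : (f.quotKerEquivOfSurjective hf).symm (f x) = Submodule.Quotient.mk x := by
          rw [LinearEquiv.symm_apply_eq]
          rfl
        rw [this]
        rfl⟩
    · rintro ⟨ψ, rfl⟩
      refine LinearMap.ext (fun y => ?_)
      change ψ (f (g y)) = 0
      rw [(hfg (g y)).2 ⟨y, rfl⟩, map_zero]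
  have hexN : Function.Exact (f.dualMap.rTensor N) (g.dualMap.rTensor N) :=
    Module.Flat.rTensor_exact N hex
  have hbn := dualTensorHom_bijective (R := k) (M := Fin n → k) (N := N)
  have hbm := dualTensorHom_bijective (R := k) (M := Fin m → k) (N := N)
  constructor
  · rw [injective_iff_map_eq_zero]
    intro x hx
    apply hinjN
    apply hbn.1
    have h := LinearMap.congr_fun (dualTensorHom_comp_rTensor_dualMap (R := k) (P := N) f) x
    simp only [LinearMap.comp_apply] at h
    rw [h, hx, map_zero, map_zero, map_zero]
  · intro φ
    obtain ⟨y, hy⟩ := hbn.2 (φ ∘ₗ f)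
    have h := LinearMap.congr_fun (dualTensorHom_comp_rTensor_dualMap (R := k) (P := N) g) y
    simp only [LinearMap.comp_apply] at h
    have hz : g.dualMap.rTensor N y = 0 := by
      apply hbm.1
      rw [h, hy, map_zero]
      refine LinearMap.ext (fun z => ?_)
      change φ (f (g z)) = 0
      rw [(hfg (g z)).2 ⟨z, rfl⟩, map_zero]
    obtain ⟨x, hx⟩ := (hexN y).1 hz
    refine ⟨x, ?_⟩
    have h2 := LinearMap.congr_fun (dualTensorHom_comp_rTensor_dualMap (R := k) (P := N) f) x
    simp only [LinearMap.comp_apply] at h2
    rw [hx, hy] at h2
    refine LinearMap.ext (fun z => ?_)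
    obtain ⟨w, rfl⟩ := hf z
    exact (LinearMap.congr_fun h2 w).symm

section

variable {k : Type u} [CommRing k] {A : Type v} [AddCommGroup A] [Module k A] [Coalgebra k A]
  {M : Type w} [AddCommGroup M] [Module k M]

/-- `ldualFun` as a linear map in the form. -/
noncomputable def ldualLin (c : HopfRep.Comod k A M) : Module.Dual k M →ₗ[k] M →ₗ[k] A where
  toFun g := ComodSub.ldualFun c g
  map_add' g h := by
    refine LinearMap.ext (fun m => ?_)
    simp only [ComodSub.ldualFun_apply, LinearMap.rTensor_add, LinearMap.add_apply, map_add]
  map_smul' a g := by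
    refine LinearMap.ext (fun m => ?_)
    simp only [ComodSub.ldualFun_apply, LinearMap.rTensor_smul, LinearMap.smul_apply, map_smul,
      RingHom.id_apply]

/-- Reading `A ⊗ M^*` as maps `M → A`. -/
noncomputable def read (A : Type v) [AddCommGroup A] [Module k A] : A ⊗[k] Module.Dual k M →ₗ[k] M →ₗ[k] A :=
  dualTensorHom k M A ∘ₗ (TensorProduct.comm k A (Module.Dual k M)).toLinearMap

theorem read_tmul (A : Type v) [AddCommGroup A] [Module k A] (a : A) (φ : Module.Dual k M) (m : M) :
    read A (a ⊗ₜ[k] φ) m = φ m • a := by
  simp [read]

theorem read_bijective [Module.FinitePresentation k M] (A : Type v) [AddCommGroup A] [Module k A]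
    [Module.Flat k A] : Function.Bijective (read (k := k) (M := M) A) :=
  (bijective_dualTensorHom k M A).comp (TensorProduct.comm k A (Module.Dual k M)).bijective

/-- The left coaction on the dual. -/
noncomputable def lco [Module.Flat k A] [Module.FinitePresentation k M] (c : HopfRep.Comod k A M) :
    Module.Dual k M →ₗ[k] A ⊗[k] Module.Dual k M :=
  (LinearEquiv.ofBijective (read (k := k) (M := M) A) (read_bijective A)).symm.toLinearMap ∘ₗ ldualLin c

theorem read_lco [Module.Flat k A] [Module.FinitePresentation k M] (c : HopfRep.Comod k A M)
    (g : Module.Dual k M) : read A (lco c g) = ComodSub.ldualFun c g := by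
  change read A ((LinearEquiv.ofBijective (read (k := k) (M := M) A) (read_bijective A)).symm (ldualLin c g)) = _
  rw [← LinearEquiv.ofBijective_apply (read (k := k) (M := M) A) (hf := read_bijective A),
    LinearEquiv.apply_symm_apply]
  rfl

theorem exists_ldual [Module.Flat k A] [Module.FinitePresentation k M] (c : HopfRep.Comod k A M) :
    ∃ l : ComodSub.LComod k A (Module.Dual k M), ComodSub.LComod.IsLDual c l := by
  -- reading of `A ⊗ (A ⊗ M^*)`
  let R2 : A ⊗[k] (A ⊗[k] Module.Dual k M) →ₗ[k] M →ₗ[k] A ⊗[k] A :=
    read (A ⊗[k] A) ∘ₗ (TensorProduct.assoc k A A (Module.Dual k M)).symm.toLinearMap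
  have hR2 : Function.Injective R2 :=
    (read_bijective (A ⊗[k] A)).1.comp (TensorProduct.assoc k A A (Module.Dual k M)).symm.injective
  have hR2t : ∀ (a : A) (y : A ⊗[k] Module.Dual k M) (m : M), R2 (a ⊗ₜ[k] y) m = a ⊗ₜ[k] read A y m := by
    intro a y m
    induction y using TensorProduct.induction_on with
    | zero => simp
    | add x y hx hy => simp only [tmul_add, map_add, LinearMap.add_apply, hx, hy]
    | tmul b φ =>
      change read (A ⊗[k] A) ((a ⊗ₜ[k] b) ⊗ₜ[k] φ) m = _
      rw [read_tmul, read_tmul, tmul_smul]
  -- left-hand side
  have h1 : ∀ (y : A ⊗[k] Module.Dual k M) (m : M), R2 ((lco c).lTensor A y) m =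
      (read A y).rTensor A (c.coact m) := by
    intro y m
    induction y using TensorProduct.induction_on with
    | zero => simp
    | add x y hx hy => simp only [map_add, LinearMap.add_apply, LinearMap.rTensor_add, hx, hy]
    | tmul a φ =>
      rw [LinearMap.lTensor_tmul, hR2t, read_lco, ComodSub.ldualFun_apply]
      generalize c.coact m = z
      induction z using TensorProduct.induction_on with
      | zero => simp
      | add x y hx hy => simp only [map_add, tmul_add, hx, hy]
      | tmul m' b =>
        rw [LinearMap.rTensor_tmul, LinearMap.rTensor_tmul, TensorProduct.lid_tmul, read_tmul,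
          tmul_smul, smul_tmul']
  -- right-hand side
  have h2 : ∀ (y : A ⊗[k] Module.Dual k M) (m : M),
      R2 ((TensorProduct.assoc k A A (Module.Dual k M))
        ((CoalgebraStruct.comul (R := k) (A := A)).rTensor (Module.Dual k M) y)) m =
      CoalgebraStruct.comul (R := k) (read A y m) := by
    intro y m
    induction y using TensorProduct.induction_on with
    | zero => simp
    | add x y hx hy => simp only [map_add, LinearMap.add_apply, hx, hy]
    | tmul a φ =>
      rw [LinearMap.rTensor_tmul, read_tmul, map_smul]
      change read (A ⊗[k] A) ((TensorProduct.assoc k A A (Module.Dual k M)).symm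
        ((TensorProduct.assoc k A A (Module.Dual k M)) (CoalgebraStruct.comul (R := k) a ⊗ₜ[k] φ))) m = _
      rw [LinearEquiv.symm_apply_apply, read_tmul]
  refine ⟨⟨lco c, ?_, ?_⟩, fun g => read_lco c g⟩
  · refine LinearMap.ext (fun g => hR2 (LinearMap.ext (fun m => ?_)))
    simp only [LinearMap.coe_comp, Function.comp_apply, LinearEquiv.coe_coe]
    rw [h1, h2, read_lco, ComodSub.ldualFun_apply]
    have hc := LinearMap.congr_fun c.coassoc m
    simp only [LinearMap.coe_comp, Function.comp_apply, LinearEquiv.coe_coe] at hc
    have h3 : ∀ z : M ⊗[k] A, (ComodSub.ldualFun c g).rTensor A z =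
        TensorProduct.lid k (A ⊗[k] A) (g.rTensor (A ⊗[k] A)
          (TensorProduct.assoc k M A A (c.coact.rTensor A z))) := by
      intro z
      induction z using TensorProduct.induction_on with
      | zero => simp
      | add x y hx hy => simp only [map_add, hx, hy]
      | tmul m' b =>
        rw [LinearMap.rTensor_tmul, LinearMap.rTensor_tmul, ComodSub.ldualFun_apply]
        generalize c.coact m' = w
        induction w using TensorProduct.induction_on with
        | zero => simp
        | add x y hx hy => simp only [map_add, add_tmul, hx, hy]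
        | tmul m'' b' =>
          rw [LinearMap.rTensor_tmul, TensorProduct.lid_tmul, TensorProduct.assoc_tmul,
            LinearMap.rTensor_tmul, TensorProduct.lid_tmul, smul_tmul']
    have h4 : ∀ z : M ⊗[k] A, CoalgebraStruct.comul (R := k) (TensorProduct.lid k A (g.rTensor A z)) =
        TensorProduct.lid k (A ⊗[k] A) (g.rTensor (A ⊗[k] A)
          ((CoalgebraStruct.comul (R := k) (A := A)).lTensor M z)) := by
      intro z
      induction z using TensorProduct.induction_on with
      | zero => simp
      | add x y hx hy => simp only [map_add, hx, hy]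
      | tmul m' b =>
        rw [LinearMap.rTensor_tmul, TensorProduct.lid_tmul, LinearMap.lTensor_tmul,
          LinearMap.rTensor_tmul, TensorProduct.lid_tmul, map_smul]
    rw [h3, h4, hc]
  · refine LinearMap.ext (fun g => ?_)
    simp only [LinearMap.coe_comp, Function.comp_apply, TensorProduct.mk_apply]
    have h5 : ∀ (y : A ⊗[k] Module.Dual k M) (m : M),
        TensorProduct.lid k (Module.Dual k M)
          ((CoalgebraStruct.counit (R := k) (A := A)).rTensor (Module.Dual k M) y) m =
        CoalgebraStruct.counit (R := k) (read A y m) := by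
      intro y m
      induction y using TensorProduct.induction_on with
      | zero => simp
      | add x y hx hy => simp only [map_add, LinearMap.add_apply, hx, hy]
      | tmul a φ =>
        rw [LinearMap.rTensor_tmul, TensorProduct.lid_tmul, read_tmul, map_smul,
          LinearMap.smul_apply, smul_eq_mul, smul_eq_mul, mul_comm]
    apply (TensorProduct.lid k (Module.Dual k M)).injective
    refine LinearMap.ext (fun m => ?_)
    rw [h5, read_lco, ComodSub.ldualFun_apply, TensorProduct.lid_tmul, one_smul]
    have hc := LinearMap.congr_fun c.counit_comp m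
    simp only [LinearMap.coe_comp, Function.comp_apply, LinearMap.flip_apply,
      TensorProduct.mk_apply] at hc
    have h6 : ∀ z : M ⊗[k] A, CoalgebraStruct.counit (R := k) (TensorProduct.lid k A (g.rTensor A z)) =
        TensorProduct.lid k k (g.rTensor k
          ((CoalgebraStruct.counit (R := k) (A := A)).lTensor M z)) := by
      intro z
      induction z using TensorProduct.induction_on with
      | zero => simp
      | add x y hx hy => simp only [map_add, hx, hy]
      | tmul m' b =>
        rw [LinearMap.rTensor_tmul, TensorProduct.lid_tmul, LinearMap.lTensor_tmul,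
          LinearMap.rTensor_tmul, TensorProduct.lid_tmul, map_smul]
    rw [h6, hc, LinearMap.rTensor_tmul, TensorProduct.lid_tmul, smul_eq_mul, mul_one]

end

end K892.DualFp
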